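import Cfsg.Agent.Lib.Comp.Fast

set_option maxRecDepth 100000
set_option Elab.async false

namespace Cfsg.Lib.Comp.X8

universe u

def iv : ℕ → ℕ := (fun x => look (nat_lit 0xffef7cefae78df6d74cf2c70beeb6caeaa689e69648e28607de75c6da6585d65544d245038f30d2c9287205183101080) 6 x)

noncomputable def R : List (List ℕ × ℕ) := [([1],3),
 ([1,1,4,4],0),
 ([1,1,6,6],0),
 ([1,1,8,8],0),
 ([1,3,1,4],0),
 ([5,7,5,8],0),
 ([1,5,2,6],0),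
 ([1,7,2,8],0),
 ([3,5,4,6],0),
 ([3,7,4,8],0),
 ([9],2),
 ([9,1,10,4],0),
 ([9,3,10,4,2],0),
 ([9,5,10,8],0),
 ([9,7,10,8,6],0),
 ([11],1),
 ([11,9],1),
 ([11,1,11,5],0),
 ([11,5,11,1],0),
 ([12],2),
 ([12,3,7,13,3,7],0),
 ([12,1,3,7,13,11],0),
 ([12,11,13,11,1,3,7],0),
 ([12,1,5,7],1),
 ([14],2),
 ([14,1,5,7,15,1,5,7],0),
 ([14,1,5,15,11],0),
 ([14,11,15,11,1,5],0),
 ([14,3,7],1),
 ([9,12],3),
 ([9,14],3),
 ([12,14,13,15],0),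
 ([1,2],0),
 ([3,4],0),
 ([5,6],0),
 ([7,8],0),
 ([9,10],0),
 ([12,13],0),
 ([14,15],0)]

def L : List ℕ := [1,2,3,4,5,6,7,8,9,10,11,12,13,14,15]

end Cfsg.Lib.Comp.X8
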