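import Cfsg.Agent.Lib.Comp.X8.Base

set_option maxRecDepth 100000
set_option Elab.async false

namespace Cfsg.Lib.Comp.X8

universe u

noncomputable def nets_1 : Net :=
 (Net.cons 1 (nat_lit 0x44)
 (Net.cons 2 (nat_lit 0x33)
 Net.nil))

noncomputable def nets_3 : Net :=
 (Net.cons 1 (nat_lit 0x50)
 (Net.cons 2 (nat_lit 0x33)
 (Net.cons 4 (nat_lit 0xf)
 Net.nil)))

noncomputable def nets_5 : Net :=
 (Net.cons 1 (nat_lit 0x5)
 (Net.cons 4 (nat_lit 0xf)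
 Net.nil))

noncomputable def nets_7 : Net :=
 (Net.cons 1 (nat_lit 0x41)
 (Net.cons 2 (nat_lit 0x33)
 Net.nil))

noncomputable def nets_9 : Net :=
 (Net.cons 4 (nat_lit 0xc)
 (Net.cons 2 (nat_lit 0x30)
 Net.nil))

noncomputable def nets_11 : Net :=
 (Net.cons 4 (nat_lit 0xc)
 (Net.cons 1 (nat_lit 0x55)
 (Net.cons 2 (nat_lit 0x30)
 (Net.cons 4 (nat_lit 0xc)
 Net.nil))))

noncomputable def nets_12 : Net :=
 (Net.cons 4 (nat_lit 0x8)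
 (Net.cons 2 (nat_lit 0x2)
 (Net.cons 1 (nat_lit 0x11)
 (Net.cons 2 (nat_lit 0x20)
 (Net.cons 4 (nat_lit 0x8)
 Net.nil)))))

noncomputable def nets_14 : Net :=
 (Net.cons 1 (nat_lit 0x11)
 (Net.cons 2 (nat_lit 0x22)
 (Net.cons 4 (nat_lit 0xa)
 Net.nil)))

noncomputable def nets_64 : Net :=
 (Net.cons 4 (nat_lit 0xc)
 (Net.cons 1 (nat_lit 0x50)
 (Net.cons 2 (nat_lit 0x30)
 (Net.cons 4 (nat_lit 0xc)
 Net.nil))))

noncomputable def nets_65 : Net :=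
 (Net.cons 4 (nat_lit 0x4)
 (Net.cons 2 (nat_lit 0x2)
 (Net.cons 1 (nat_lit 0x4)
 (Net.cons 2 (nat_lit 0x12)
 (Net.cons 4 (nat_lit 0x4)
 Net.nil)))))

noncomputable def nets_66 : Net :=
 (Net.cons 4 (nat_lit 0xc)
 (Net.cons 1 (nat_lit 0x14)
 (Net.cons 2 (nat_lit 0x12)
 (Net.cons 4 (nat_lit 0xc)
 Net.nil))))

noncomputable def nets_68 : Net :=
 (Net.cons 4 (nat_lit 0xc)
 (Net.cons 2 (nat_lit 0x20)
 (Net.cons 1 (nat_lit 0x44)
 (Net.cons 2 (nat_lit 0x20)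
 (Net.cons 4 (nat_lit 0xc)
 Net.nil)))))

noncomputable def nets_69 : Net :=
 (Net.cons 2 (nat_lit 0x20)
 (Net.cons 1 (nat_lit 0x40)
 Net.nil))

noncomputable def nets_71 : Net :=
 (Net.cons 4 (nat_lit 0x8)
 (Net.cons 1 (nat_lit 0x50)
 (Net.cons 4 (nat_lit 0x8)
 Net.nil)))

noncomputable def nets_72 : Net :=
 (Net.cons 2 (nat_lit 0x30)
 Net.nil)

noncomputable def nets : List Net := (apd [Net.nil,
 nets_1,
 Net.rev nets_1,
 nets_3,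
 Net.rev nets_3,
 nets_5,
 Net.rev nets_5,
 nets_7,
 Net.rev nets_7,
 nets_9,
 Net.rev nets_9,
 nets_11,
 nets_12,
 Net.rev nets_12,
 nets_14,
 Net.rev nets_14,
 Net.nil,
 Net.nil,
 Net.nil,
 Net.nil,
 Net.nil,
 Net.nil,
 Net.nil,
 Net.nil,
 Net.nil,
 Net.nil,
 Net.nil,
 Net.nil,
 Net.nil,
 Net.nil,
 Net.nil,
 Net.nil,
 Net.nil,
 Net.nil,
 Net.nil,
 Net.nil,
 Net.nil,
 Net.nil,
 Net.nil,
 Net.nil]
 [Net.nil,
 Net.nil,
 Net.nil,
 Net.nil,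
 Net.nil,
 Net.nil,
 Net.nil,
 Net.nil,
 Net.nil,
 Net.nil,
 Net.nil,
 Net.nil,
 Net.nil,
 Net.nil,
 Net.nil,
 Net.nil,
 Net.nil,
 Net.nil,
 Net.nil,
 Net.nil,
 Net.nil,
 Net.nil,
 Net.nil,
 Net.nil,
 nets_64,
 nets_65,
 nets_66,
 Net.rev nets_66,
 nets_68,
 nets_69,
 Net.rev nets_69,
 nets_71,
 nets_72])

theorem nets_ok : NetsOK 8 nets := netsOK_of (by decide +kernel)

theorem nets_rel : Rels (gp nets) R := rels_of_relsB (k := 3) nets_ok (by norm_num) (by decide +kernel)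

theorem nets_iv : IvOK (gp nets) iv := ivOK_of_ivB (k := 3) nets_ok (by norm_num) (by decide +kernel)

noncomputable def slp : List (ℕ × List ℕ) := [(64,[4,11,4]),
 (65,[13,3]),
 (66,[11,14]),
 (67,[15,11]),
 (68,[67,65]),
 (69,[64,9,68,9]),
 (70,[10,68,10,64]),
 (71,[9,68,10]),
 (72,[71,69,71,70,71])]

theorem slp_ok : slpB 8 3 nets slp L = true := by decide +kernel

theorem mem_all {x : ℕ} (h : x ∈ L ++ slp.map (·.1)) : gp nets x ∈ cl (gp nets) L :=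
  cl_eq_of_slpB nets_ok (by norm_num) slp_ok ▸ mem_cl h

theorem lb : 20160 ≤ Nat.card (cl (gp nets) L) := by
  rw [← cl_eq_of_slpB nets_ok (by norm_num) slp_ok]
  exact lb_of_chainB nets_ok (C := [([9,10,64,65,66,67,68,69,70,71,72],[1,3,1,1],0,0,8),
 ([9,10,64,68,69,70,71,72],[65,9,66,64],1,1,7),
 ([69,70,71,72],[9,68,9],2,2,6),
 ([69,70,72],[71,69,72],3,3,5),
 ([69,70],[72,69,69],4,4,4),
 ([],[69,69],5,5,3)]) (by decide +kernel)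

end Cfsg.Lib.Comp.X8
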